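import Mathlib

/-!
# `Ext¹` of the cokernel of a map of finite projective modules commutes with base change
-/

universe u

open TensorProduct Function CategoryTheory

namespace GrothLib.T1Base26

section Ext

variable {B : Type u} [CommRing B] {C F Ω N : Type u} [AddCommGroup C] [Module B C] [AddCommGroup F] [Module B F]
  [AddCommGroup Ω] [Module B Ω] [AddCommGroup N] [Module B N] {d : C →ₗ[B] F} {π : F →ₗ[B] Ω}

/-- `Ext¹` from a short exact sequence with projective middle term. -/
theorem nonempty_ext_one_equiv [Module.Projective B F] (hd : Injective d) (hπ : Surjective π) (hex : Exact d π) :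
    Nonempty (((C →ₗ[B] N) ⧸ LinearMap.range (LinearMap.lcomp B N d)) ≃ₗ[B]
      Abelian.Ext.{u} (ModuleCat.of B Ω) (ModuleCat.of B N) 1) := by
  let S : ShortComplex (ModuleCat.{u} B) := ShortComplex.mk (ModuleCat.ofHom d) (ModuleCat.ofHom π)
    (by ext x; exact hex.apply_apply_eq_zero x)
  have hS : S.ShortExact :=
    { exact := (ShortComplex.moduleCat_exact_iff_range_eq_ker S).2 (LinearMap.exact_iff.1 hex).symm
      mono_f := (ModuleCat.mono_iff_injective _).2 hd
      epi_g := (ModuleCat.epi_iff_surjective _).2 hπ }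
  haveI : CategoryTheory.Projective S.X₂ := (IsProjective.iff_projective (R := B) F).1 inferInstance
  let ψ : (C →ₗ[B] N) →ₗ[B] Abelian.Ext.{u} (ModuleCat.of B Ω) (ModuleCat.of B N) 1 :=
    { toFun := fun f => hS.extClass.comp (Abelian.Ext.mk₀ (ModuleCat.ofHom f)) (add_zero 1)
      map_add' := fun f g => by
        show _ = _ + _
        rw [← Abelian.Ext.comp_add, ← Abelian.Ext.mk₀_add]
        rfl
      map_smul' := fun r f => by
        show _ = r • hS.extClass.comp (Abelian.Ext.mk₀ (ModuleCat.ofHom f)) (add_zero 1)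
        rw [← Abelian.Ext.comp_smul, ← Abelian.Ext.mk₀_smul]
        rfl }
  have hsurj : Surjective ψ := fun e => by
    obtain ⟨x, hx⟩ := precomp_extClass_surjective_of_projective_X₂ (ModuleCat.of B N) hS 0 e
    obtain ⟨f, rfl⟩ := Abelian.Ext.addEquiv₀.symm.surjective x
    exact ⟨f.hom, hx⟩
  have hker : LinearMap.ker ψ = LinearMap.range (LinearMap.lcomp B N d) := by
    ext f
    rw [LinearMap.mem_ker]
    constructor
    · intro hf
      obtain ⟨x, hx⟩ := Abelian.Ext.contravariant_sequence_exact₁ hS (ModuleCat.of B N)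
        (Abelian.Ext.mk₀ (ModuleCat.ofHom f)) (n₁ := 1) rfl hf
      obtain ⟨g, rfl⟩ := Abelian.Ext.addEquiv₀.symm.surjective x
      rw [Abelian.Ext.addEquiv₀_symm_apply, Abelian.Ext.mk₀_comp_mk₀] at hx
      exact ⟨g.hom, (congrArg ModuleCat.Hom.hom ((Abelian.Ext.mk₀_bijective _ _).injective hx))⟩
    · rintro ⟨g, rfl⟩
      show hS.extClass.comp (Abelian.Ext.mk₀ (S.f ≫ ModuleCat.ofHom g)) (add_zero 1) = 0
      rw [← Abelian.Ext.mk₀_comp_mk₀, hS.extClass_comp_assoc]
  exact ⟨(Submodule.quotEquivOfEq _ _ hker.symm).trans (ψ.quotKerEquivOfSurjective hsurj)⟩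

end Ext

section Dual

variable {B : Type u} [CommRing B] (B' : Type u) [CommRing B'] [Algebra B B']
  {C F : Type u} [AddCommGroup C] [Module B C] [AddCommGroup F] [Module B F]

/-- The comparison `B' ⊗ Hom(C, B) → Hom(B' ⊗ C, B')`. -/
noncomputable def dualMap (C : Type u) [AddCommGroup C] [Module B C] :
    B' ⊗[B] Module.Dual B C →ₗ[B'] Module.Dual B' (B' ⊗[B] C) :=
  (Module.Dual.baseChange B').liftBaseChange B'

@[simp]
theorem dualMap_tmul (a b : B') (f : Module.Dual B C) (v : C) :
    dualMap B' C (a ⊗ₜ f) (b ⊗ₜ v) = a * (f v • b) := by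
  simp [dualMap]

theorem dualMap_natural (d : C →ₗ[B] F) (t : B' ⊗[B] Module.Dual B F) :
    dualMap B' C (d.dualMap.baseChange B' t) = (d.baseChange B').dualMap (dualMap B' F t) := by
  induction t using TensorProduct.induction_on with
  | zero => simp
  | add a b ha hb => simp only [map_add, ha, hb]
  | tmul a f =>
    refine TensorProduct.AlgebraTensorModule.ext fun b v => ?_
    simp

theorem bijective_dualMap_free [Module.Free B C] [Module.Finite B C] : Bijective (dualMap (B := B) B' C) := by
  have h : dualMap B' C = ((TensorProduct.isBaseChange B C B').toDualBaseChange).toLinearMap := by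
    refine TensorProduct.AlgebraTensorModule.ext fun a f => TensorProduct.AlgebraTensorModule.ext fun b v => ?_
    have hb : b ⊗ₜ[B] v = b • ((1 : B') ⊗ₜ[B] v) := by rw [TensorProduct.smul_tmul', smul_eq_mul, mul_one]
    rw [hb, map_smul, map_smul]
    congr 1
    rw [dualMap_tmul]
    refine Eq.trans ?_ ((TensorProduct.isBaseChange B C B').toDualBaseChange_tmul a f v).symm
    rw [Algebra.algebraMap_eq_smul_one]
  rw [h]
  exact LinearEquiv.bijective _

theorem bijective_dualMap [Module.Projective B C] [Module.Finite B C] : Bijective (dualMap (B := B) B' C) := by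
  obtain ⟨n, r, hr⟩ := Module.Finite.exists_fin' B C
  obtain ⟨i, hi⟩ := Module.projective_lifting_property r LinearMap.id hr
  have hfree := bijective_dualMap_free (B := B) B' (C := Fin n → B)
  constructor
  · rw [injective_iff_map_eq_zero]
    intro t ht
    have h1 : r.dualMap.baseChange B' t = 0 := hfree.1 (by rw [dualMap_natural, ht, map_zero, map_zero])
    have h2 := congrArg (i.dualMap.baseChange B') h1
    rwa [map_zero, ← LinearMap.comp_apply, ← LinearMap.baseChange_comp, LinearMap.dualMap_comp_dualMap, hi,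
      LinearMap.dualMap_id, LinearMap.baseChange_id, LinearMap.id_apply] at h2
  · intro φ
    obtain ⟨t, ht⟩ := hfree.2 ((r.baseChange B').dualMap φ)
    refine ⟨i.dualMap.baseChange B' t, ?_⟩
    rw [dualMap_natural, ht, ← LinearMap.comp_apply, LinearMap.dualMap_comp_dualMap, ← LinearMap.baseChange_comp, hi,
      LinearMap.baseChange_id, LinearMap.dualMap_id, LinearMap.id_apply]

/-- The cokernel of a dual map commutes with base change. -/
theorem nonempty_coker_dual (d : C →ₗ[B] F) [Module.Projective B C] [Module.Finite B C]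
    [Module.Projective B F] [Module.Finite B F] :
    Nonempty (B' ⊗[B] (Module.Dual B C ⧸ LinearMap.range d.dualMap) ≃ₗ[B']
      (Module.Dual B' (B' ⊗[B] C) ⧸ LinearMap.range (d.baseChange B').dualMap)) := by
  let g : B' ⊗[B] Module.Dual B C →ₗ[B'] B' ⊗[B] (Module.Dual B C ⧸ LinearMap.range d.dualMap) :=
    (LinearMap.range d.dualMap).mkQ.baseChange B'
  have hg : Surjective g := LinearMap.lTensor_surjective B' (Submodule.mkQ_surjective _)
  have hker : LinearMap.ker g = LinearMap.range (d.dualMap.baseChange B') := by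
    ext x
    exact lTensor_exact B' (LinearMap.exact_map_mkQ_range d.dualMap) (Submodule.mkQ_surjective _) x
  let e := LinearEquiv.ofBijective (dualMap (B := B) B' C) (bijective_dualMap (B := B) B')
  refine ⟨(g.quotKerEquivOfSurjective hg).symm.trans ((Submodule.quotEquivOfEq _ _ hker).trans
    (Submodule.Quotient.equiv _ _ e ?_))⟩
  ext φ
  constructor
  · rintro ⟨t, ⟨s, rfl⟩, rfl⟩
    exact ⟨dualMap B' F s, (dualMap_natural B' d s).symm⟩
  · rintro ⟨ψ, rfl⟩
    obtain ⟨s, rfl⟩ := (bijective_dualMap (B := B) B' (C := F)).2 ψ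
    exact ⟨_, ⟨s, rfl⟩, dualMap_natural B' d s⟩

end Dual

/-- `Ext¹(-, B)` of a cokernel of finite projective modules commutes with base change if the sequence stays exact. -/
theorem nonempty_ext_baseChange {B : Type u} [CommRing B] (B' : Type u) [CommRing B'] [Algebra B B']
    {C F Ω : Type u} [AddCommGroup C] [Module B C] [AddCommGroup F] [Module B F] [AddCommGroup Ω] [Module B Ω]
    [Module.Projective B C] [Module.Finite B C] [Module.Projective B F] [Module.Finite B F]
    {Ω' : Type u} [AddCommGroup Ω'] [Module B' Ω']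
    (d : C →ₗ[B] F) (π : F →ₗ[B] Ω) (hd : Injective d) (hπ : Surjective π) (hex : Exact d π)
    (π' : B' ⊗[B] F →ₗ[B'] Ω') (hd' : Injective (d.baseChange B')) (hπ' : Surjective π')
    (hex' : Exact (d.baseChange B') π') :
    Nonempty (B' ⊗[B] Abelian.Ext.{u} (ModuleCat.of B Ω) (ModuleCat.of B B) 1 ≃ₗ[B']
      Abelian.Ext.{u} (ModuleCat.of B' Ω') (ModuleCat.of B' B') 1) := by
  obtain ⟨e₁⟩ := nonempty_ext_one_equiv (N := B) hd hπ hex
  obtain ⟨e₂⟩ := nonempty_ext_one_equiv (N := B') hd' hπ' hex'
  obtain ⟨e₃⟩ := nonempty_coker_dual B' d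
  exact ⟨(e₁.symm.baseChange B B' _ _).trans (e₃.trans e₂)⟩

end GrothLib.T1Base26
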