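import Mathlib

/-!
# A short exact sequence stays exact modulo an ideal when the cokernel is flat at the associated primes
-/

universe u

open TensorProduct Function

namespace GrothLib.T1Base26

variable {B : Type u} [CommRing B] {C F Ω : Type u} [AddCommGroup C] [Module B C] [AddCommGroup F] [Module B F]
  [AddCommGroup Ω] [Module B Ω] {d : C →ₗ[B] F} {π : F →ₗ[B] Ω}

theorem exists_smul_eq_zero (hd : Injective d) (hπ : Surjective π) (hex : Exact d π) (S : Submonoid B)
    [Module.Flat B (LocalizedModule S Ω)] (Q : Type u) [AddCommGroup Q] [Module B Q] {x : Q ⊗[B] C}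
    (hx : d.lTensor Q x = 0) : ∃ s ∈ S, s • x = 0 := by
  let gC := LocalizedModule.mkLinearMap S C
  let gF := LocalizedModule.mkLinearMap S F
  let gΩ := LocalizedModule.mkLinearMap S Ω
  let dS := IsLocalizedModule.map S gC gF d
  let πS := IsLocalizedModule.map S gF gΩ π
  have hinj : Injective (dS.lTensor Q) :=
    LinearMap.lTensor_injective_of_exact_of_flat πS (IsLocalizedModule.map_surjective S gF gΩ π hπ) dS
      (IsLocalizedModule.map_injective S gC gF d hd) (IsLocalizedModule.map_exact S gC gF gΩ d π hex) Q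
  have h0 : gC.lTensor Q x = 0 := by
    apply hinj
    rw [map_zero, ← LinearMap.comp_apply, ← LinearMap.lTensor_comp, IsLocalizedModule.map_comp,
      LinearMap.lTensor_comp, LinearMap.comp_apply, hx, map_zero]
  haveI : IsLocalizedModule S (gC.rTensor Q) := by
    have h : IsLocalizedModule S (AlgebraTensorModule.rTensor B Q gC) := inferInstance
    exact h
  have h1 : gC.rTensor Q (TensorProduct.comm B Q C x) = 0 := by
    rw [← LinearMap.comm_comp_lTensor_comp_comm_eq] at *
    simp [h0]
  obtain ⟨s, hs⟩ := (IsLocalizedModule.eq_zero_iff S (gC.rTensor Q)).1 h1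
  refine ⟨s.1, s.2, (TensorProduct.comm B Q C).injective ?_⟩
  rw [map_smul, map_zero]
  exact hs

/-- A short exact sequence with flat first term stays exact modulo `𝔞` if its cokernel is flat at the associated
primes of `B/𝔞`. -/
theorem injective_lTensor [IsNoetherianRing B] (hd : Injective d) (hπ : Surjective π) (hex : Exact d π)
    [Module.Flat B C] (𝔞 : Ideal B)
    (h : ∀ (q : Ideal B) [q.IsPrime], q ∈ associatedPrimes B (B ⧸ 𝔞) → Module.Flat B (LocalizedModule q.primeCompl Ω)) :
    Injective (d.lTensor (B ⧸ 𝔞)) := by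
  classical
  rw [injective_iff_map_eq_zero]
  intro x hx
  let T : Ideal B := LinearMap.ker ((LinearMap.lsmul B ((B ⧸ 𝔞) ⊗[B] C)).flip x)
  have hTq : ∀ q ∈ associatedPrimes B (B ⧸ 𝔞), ¬ T ≤ q := fun q hq hle => by
    haveI := hq.isPrime
    haveI := h q hq
    obtain ⟨s, hs, hsx⟩ := exists_smul_eq_zero hd hπ hex q.primeCompl (B ⧸ 𝔞) hx
    exact hs (hle hsx)
  obtain ⟨s, hsT, hsq⟩ : ∃ s ∈ T, s ∉ ⋃ p ∈ associatedPrimes B (B ⧸ 𝔞), (p : Set B) := by
    by_contra hcon
    push_neg at hcon
    obtain ⟨p, hp, hle⟩ := (Ideal.subset_union_prime_finite (associatedPrimes.finite B (B ⧸ 𝔞)) ⊥ ⊥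
      fun p hp _ _ => hp.isPrime).1 hcon
    exact hTq p hp hle
  rw [biUnion_associatedPrimes_eq_zero_divisors] at hsq
  have hs : Injective ((LinearMap.lsmul B (B ⧸ 𝔞) s).rTensor C) :=
    Module.Flat.rTensor_preserves_injective_linearMap _ (by
      rw [injective_iff_map_eq_zero]
      intro a ha
      by_contra hne
      exact hsq ⟨a, hne, ha⟩)
  have e : ∀ y : (B ⧸ 𝔞) ⊗[B] C, (LinearMap.lsmul B (B ⧸ 𝔞) s).rTensor C y = s • y := fun y => by
    induction y using TensorProduct.induction_on with
    | zero => simp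
    | add a b ha hb => rw [map_add, smul_add, ha, hb]
    | tmul a b => rfl
  refine hs ?_
  rw [map_zero, e]
  exact hsT

end GrothLib.T1Base26
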