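import Groth.Agent.Lib.LciH1.Main
import Groth.Agent.Lib.T1Base26.Inj
import Groth.Agent.Lib.T1Base26.Ext
import Mathlib

/-!
# The first cotangent module of a flat complete intersection commutes with base change to closed subschemes
-/

universe u

open IsLocalRing RingTheory.Sequence TensorProduct

namespace GrothLib.T1Base26

theorem flat_localizedModule_of_map {B : Type u} [CommRing B] {C : Type u} [AddCommGroup C] [Module B C]
    (S : Submonoid B) {c : ℕ} (φ : (Fin c → B) →ₗ[B] C) (hs : ∀ m : C, ∃ s ∈ S, s • m ∈ LinearMap.range φ)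
    (hi : ∀ v, φ v = 0 → ∃ s ∈ S, s • v = 0) : Module.Flat B (LocalizedModule S C) := by
  let g₁ := LocalizedModule.mkLinearMap S (Fin c → B)
  let g₂ := LocalizedModule.mkLinearMap S C
  let φS := IsLocalizedModule.map S g₁ g₂ φ
  have hbij : Function.Bijective φS := by
    constructor
    · rw [injective_iff_map_eq_zero]
      intro z hz
      obtain ⟨⟨v, s⟩, hv⟩ := IsLocalizedModule.surj S g₁ z
      have h1 : g₂ (φ v) = 0 := by
        rw [← IsLocalizedModule.map_apply S g₁ g₂ φ v, ← hv, LinearMap.map_smul_of_tower]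
        show s • φS z = 0
        rw [hz, smul_zero]
      obtain ⟨t, ht⟩ := (IsLocalizedModule.eq_zero_iff S g₂).1 h1
      obtain ⟨u, hu, huv⟩ := hi (t • v) (by rw [LinearMap.map_smul_of_tower]; exact ht)
      have h2 : g₁ v = 0 := (IsLocalizedModule.eq_zero_iff S g₁).2 ⟨⟨u, hu⟩ * t, by rw [mul_smul]; exact huv⟩
      rw [← hv] at h2
      exact IsLocalizedModule.smul_inj g₁ s z 0 |>.1 (by rw [smul_zero]; exact h2)
    · intro y
      obtain ⟨⟨m, s⟩, hm⟩ := IsLocalizedModule.surj S g₂ y
      obtain ⟨t, ht, v, hv⟩ := hs m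
      refine ⟨IsLocalizedModule.mk' g₁ v (⟨t, ht⟩ * s), ?_⟩
      show IsLocalizedModule.map S g₁ g₂ φ _ = y
      rw [IsLocalizedModule.map_mk', IsLocalizedModule.mk'_eq_iff, mul_smul, hm, hv]
      exact (map_smul g₂ t m)
  haveI : Module.Flat B (LocalizedModule S (Fin c → B)) :=
    Module.Flat.trans B (Localization S) _
  exact Module.Flat.of_linearEquiv (LinearEquiv.ofBijective φS hbij).symm

theorem exists_sum_of_mem_sq {L : Type u} [CommRing L] {c : ℕ} (g : Fin c → L) {w : L}
    (hw : w ∈ Ideal.span (Set.range g) * Ideal.span (Set.range g)) :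
    ∃ b : Fin c → L, (∀ i, b i ∈ Ideal.span (Set.range g)) ∧ w = ∑ i, b i * g i := by
  refine Submodule.mul_induction_on hw (fun u hu d hd => ?_) ?_
  · obtain ⟨b, hb⟩ := Ideal.mem_span_range_iff_exists_fun.1 hd
    exact ⟨fun i => u * b i, fun i => Ideal.mul_mem_right _ _ hu,
      by simp only [← hb, Finset.mul_sum, mul_assoc]⟩
  · rintro w w' ⟨b, hb, rfl⟩ ⟨b', hb', rfl⟩
    exact ⟨b + b', fun i => add_mem (hb i) (hb' i), by simp [add_mul, Finset.sum_add_distrib]⟩

variable {A : Type u} [CommRing A] [IsNoetherianRing A] {P : Type u} [CommRing P] [Algebra A P] {n : ℕ}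
  (f : MvPolynomial (Fin n) A →ₐ[A] P) (hf : Function.Surjective f)

theorem ker_ofAlgHom : (Algebra.Generators.ofAlgHom f hf).toExtension.ker = RingHom.ker f.toRingHom := by
  show RingHom.ker (algebraMap (Algebra.Generators.ofAlgHom f hf).Ring P) = _
  rw [Algebra.Generators.algebraMap_eq,
    show MvPolynomial.aeval (Algebra.Generators.ofAlgHom f hf).val = f by ext; simp [Algebra.Generators.ofAlgHom]]
  rfl

set_option maxHeartbeats 800000 in
/-- The conormal module of a Koszul regular presentation is flat. -/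
theorem flat_cotangent (hI : LCI.IsKoszulRegularIdeal (RingHom.ker f.toRingHom)) :
    Module.Flat P (Algebra.Generators.ofAlgHom f hf).toExtension.Cotangent := by
  classical
  set E := (Algebra.Generators.ofAlgHom f hf).toExtension
  set I := RingHom.ker f.toRingHom with hIdef
  have hker : E.ker = I := ker_ofAlgHom f hf
  refine Module.flat_of_localized_maximal _ fun 𝔓 _ => ?_
  set q := 𝔓.comap f.toRingHom
  have hIq : I ≤ q := fun a ha => by rw [Ideal.mem_comap, RingHom.mem_ker.1 ha]; exact zero_mem _
  set L := Localization.AtPrime q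
  set φ := algebraMap (MvPolynomial (Fin n) A) L
  obtain ⟨c, g, hg, -, hgI⟩ := GrothLib.LciH1.exists_weaklyRegular hI q hIq
  have hlift : ∀ j, ∃ r ∈ I, ∃ v : Lˣ, φ r = v * g j := fun j => by
    obtain ⟨r, u, hru⟩ := IsLocalization.exists_mk'_eq q.primeCompl (g j)
    have h1 : g j ∈ I.map φ := hgI ▸ Ideal.subset_span ⟨j, rfl⟩
    rw [← hru, IsLocalization.mk'_mem_map_algebraMap_iff q.primeCompl L] at h1
    obtain ⟨t, ht, htr⟩ := h1
    refine ⟨t * r, htr, (IsLocalization.map_units L (⟨t, ht⟩ : q.primeCompl)).unit * (IsLocalization.map_units L u).unit, ?_⟩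
    rw [← hru, Units.val_mul, IsUnit.unit_spec, IsUnit.unit_spec, map_mul, mul_assoc, IsLocalization.mk'_spec']
  choose r hr v hv using hlift
  have hspan : (Ideal.span (Set.range r)).map φ = I.map φ := by
    refine le_antisymm (Ideal.map_mono (Ideal.span_le.2 (Set.range_subset_iff.2 hr))) ?_
    rw [hgI, Ideal.span_le, Set.range_subset_iff]
    intro j
    have h1 : φ (r j) ∈ (Ideal.span (Set.range r)).map φ := Ideal.mem_map_of_mem φ (Ideal.subset_span ⟨j, rfl⟩)
    rw [hv j] at h1
    exact (Ideal.unit_mul_mem_iff_mem _ (v j).isUnit).1 h1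
  let a : Fin c → E.Cotangent := fun j => Algebra.Extension.Cotangent.mk ⟨r j, (SetLike.ext_iff.1 hker _).2 (hr j)⟩
  refine flat_localizedModule_of_map 𝔓.primeCompl (Fintype.linearCombination P a) (fun m => ?_) (fun w hw => ?_)
  · obtain ⟨⟨i, hi⟩, rfl⟩ := Algebra.Extension.Cotangent.mk_surjective m
    let i' : MvPolynomial (Fin n) A := i
    have hi' : φ i' ∈ (Ideal.span (Set.range r)).map φ :=
      hspan ▸ Ideal.mem_map_of_mem φ ((SetLike.ext_iff.1 hker _).1 hi)
    rw [IsLocalization.algebraMap_mem_map_algebraMap_iff q.primeCompl L] at hi'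
    obtain ⟨s, hs, hsi⟩ := hi'
    obtain ⟨b, hb⟩ := Ideal.mem_span_range_iff_exists_fun.1 hsi
    refine ⟨f s, hs, fun j => f (b j), ?_⟩
    have key : ∀ (t : E.Ring) (y : E.ker), (f t) • Algebra.Extension.Cotangent.mk (P := E) y =
        Algebra.Extension.Cotangent.mk (P := E) (t • y) := fun t y => by
      rw [map_smul, ← IsScalarTower.algebraMap_smul P t]
      congr 1
      show f t = algebraMap (Algebra.Generators.ofAlgHom f hf).Ring P t
      rw [Algebra.Generators.algebraMap_eq,
        show MvPolynomial.aeval (Algebra.Generators.ofAlgHom f hf).val = f by ext; simp [Algebra.Generators.ofAlgHom]]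
      rfl
    rw [Fintype.linearCombination_apply, key]
    rw [Finset.sum_congr rfl fun j _ => key (b j) _, ← map_sum]
    congr 1
    refine Subtype.ext ?_
    rw [Submodule.coe_sum]
    exact hb
  · let b : Fin c → MvPolynomial (Fin n) A := fun j => (hf (w j)).choose
    have hb : ∀ j, f (b j) = w j := fun j => (hf (w j)).choose_spec
    have key : ∀ (t : E.Ring) (y : E.ker), (f t) • Algebra.Extension.Cotangent.mk (P := E) y =
        Algebra.Extension.Cotangent.mk (P := E) (t • y) := fun t y => by
      rw [map_smul, ← IsScalarTower.algebraMap_smul P t]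
      congr 1
      show f t = algebraMap (Algebra.Generators.ofAlgHom f hf).Ring P t
      rw [Algebra.Generators.algebraMap_eq,
        show MvPolynomial.aeval (Algebra.Generators.ofAlgHom f hf).val = f by ext; simp [Algebra.Generators.ofAlgHom]]
      rfl
    rw [Fintype.linearCombination_apply, Finset.sum_congr rfl fun j _ => by rw [← hb j, key], ← map_sum,
      Algebra.Extension.Cotangent.mk_eq_zero_iff, Submodule.coe_sum] at hw
    have hw' : ∑ j, b j * r j ∈ I ^ 2 := (SetLike.ext_iff.1 (congrArg (· ^ 2) hker) _).1 hw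
    have h2 := Ideal.mem_map_of_mem φ hw'
    rw [Ideal.map_pow, hgI, pow_two] at h2
    obtain ⟨e, he, he'⟩ := exists_sum_of_mem_sq g h2
    have hcj : ∀ j, φ (b j) ∈ I.map φ := fun j => by
      have h := GrothLib.LciH1.mem_of_relation g hg (fun i => φ (b i) * v i - e i) (by
        simp only [sub_mul, Finset.sum_sub_distrib, mul_assoc, ← hv, ← map_mul, ← map_sum, ← he', sub_self]) j
      have h' := add_mem h (he j)
      rw [sub_add_cancel, ← hgI] at h'
      exact (Ideal.mul_unit_mem_iff_mem _ (v j).isUnit).1 h'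
    choose t ht htb using fun j => (IsLocalization.algebraMap_mem_map_algebraMap_iff q.primeCompl L I (b j)).1 (hcj j)
    refine ⟨∏ j, f (t j), prod_mem fun j _ => ht j, funext fun j => ?_⟩
    rw [Pi.smul_apply, Pi.zero_apply, smul_eq_mul, ← Finset.prod_erase_mul _ _ (Finset.mem_univ j), mul_assoc,
      ← hb j, ← map_mul, show f (t j * b j) = 0 from htb j, mul_zero]

theorem bijective_mapBaseChange_quotient (J : Ideal A) :
    Function.Bijective (KaehlerDifferential.mapBaseChange A P (P ⧸ J.map (algebraMap A P))) := by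
  set 𝔞 := J.map (algebraMap A P) with h𝔞
  refine ⟨?_, KaehlerDifferential.mapBaseChange_surjective A P (P ⧸ 𝔞) Ideal.Quotient.mk_surjective⟩
  rw [injective_iff_map_eq_zero]
  intro x hx
  obtain ⟨y, rfl⟩ := (KaehlerDifferential.exact_kerCotangentToTensor_mapBaseChange A P (P ⧸ 𝔞)
    Ideal.Quotient.mk_surjective x).1 hx
  obtain ⟨⟨y, hy⟩, rfl⟩ := Ideal.toCotangent_surjective _ y
  rw [KaehlerDifferential.kerCotangentToTensor_toCotangent]
  have hy' : y ∈ 𝔞 := Ideal.Quotient.eq_zero_iff_mem.1 hy
  show (1 : P ⧸ 𝔞) ⊗ₜ[P] KaehlerDifferential.D A P y = 0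
  clear hx hy
  rw [h𝔞, Ideal.map] at hy'
  induction hy' using Submodule.span_induction with
  | mem z hz =>
    obtain ⟨a, ha, rfl⟩ := hz
    rw [Derivation.map_algebraMap, TensorProduct.tmul_zero]
  | zero => rw [map_zero, TensorProduct.tmul_zero]
  | add a b _ _ ha hb => rw [map_add, TensorProduct.tmul_add, ha, hb, add_zero]
  | smul p z hz hz0 =>
    rw [smul_eq_mul, Derivation.leibniz, TensorProduct.tmul_add, TensorProduct.tmul_smul, hz0, smul_zero, zero_add,
      ← TensorProduct.smul_tmul]
    have h0 : z • (1 : P ⧸ 𝔞) = 0 := by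
      rw [Algebra.smul_def, mul_one, Ideal.Quotient.algebraMap_eq, Ideal.Quotient.eq_zero_iff_mem, h𝔞]
      exact hz
    rw [h0, TensorProduct.zero_tmul]

/-- The first cotangent module commutes with base change along a closed embedding of the base. -/
theorem nonempty_baseChange_ext [Module.Flat A P] (hlci : LCI.IsLCI A P)
    (hgs : ∀ 𝔓 : PrimeSpectrum P,
      (∀ 𝔔 : PrimeSpectrum P, 𝔔 ≤ 𝔓 →
          𝔔.asIdeal.comap (algebraMap A P) = 𝔓.asIdeal.comap (algebraMap A P) → 𝔔 = 𝔓) →
        𝔓 ∈ Algebra.smoothLocus A P)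
    (J : Ideal A) :
    Nonempty
      ((P ⧸ J.map (algebraMap A P)) ⊗[P]
          CategoryTheory.Abelian.Ext.{u} (ModuleCat.of P (KaehlerDifferential A P)) (ModuleCat.of P P) 1 ≃ₗ[P ⧸ J.map (algebraMap A P)]
        CategoryTheory.Abelian.Ext.{u}
          (ModuleCat.of (P ⧸ J.map (algebraMap A P)) (KaehlerDifferential A (P ⧸ J.map (algebraMap A P))))
          (ModuleCat.of (P ⧸ J.map (algebraMap A P)) (P ⧸ J.map (algebraMap A P))) 1) := by
  classical
  have h1 := GrothLib.LciH1.subsingleton_h1Cotangent_of_flat P hlci hgs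
  obtain ⟨-, n, f, hf, hI⟩ := hlci
  haveI : IsNoetherianRing P := isNoetherianRing_of_surjective _ _ f.toRingHom hf
  haveI : Algebra.Smooth A (MvPolynomial (Fin n) A) := ⟨inferInstance, inferInstance⟩
  let G := Algebra.Generators.ofAlgHom f hf
  set I := RingHom.ker f.toRingHom with hIdef
  haveI : Module.Flat A (MvPolynomial (Fin n) A ⧸ I) :=
    Module.Flat.of_linearEquiv (Ideal.quotientKerAlgEquivOfSurjective hf).toLinearEquiv
  have hker : G.toExtension.ker = I := ker_ofAlgHom f hf
  haveI : Module.Flat P G.toExtension.Cotangent := flat_cotangent f hf hI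
  haveI : Module.Finite P G.toExtension.Cotangent :=
    Algebra.Extension.Cotangent.finite (hker ▸ IsNoetherian.noetherian I)
  haveI : Module.FinitePresentation P G.toExtension.Cotangent := Module.finitePresentation_of_finite P _
  haveI : Module.Projective P G.toExtension.Cotangent := Module.Flat.projective_of_finitePresentation
  haveI : Module.Free P G.toExtension.CotangentSpace := .of_basis G.cotangentSpaceBasis
  haveI : Module.Finite P G.toExtension.CotangentSpace := .of_basis G.cotangentSpaceBasis
  have hd : Function.Injective G.toExtension.cotangentComplex :=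
    (Algebra.Extension.subsingleton_h1Cotangent G.toExtension).1 G.equivH1Cotangent.toEquiv.subsingleton
  set 𝔞 := J.map (algebraMap A P) with h𝔞
  have hsurj : Function.Surjective f.toRingHom := hf
  have hcomp : ∀ K : Ideal P, (K.comap f.toRingHom).comap (algebraMap A _) = K.comap (algebraMap A P) := fun K => by
    rw [Ideal.comap_comap]
    congr 1
    exact f.comp_algebraMap
  have hsm : ∀ (q : Ideal P) [q.IsPrime], q ∈ associatedPrimes P (P ⧸ 𝔞) →
      Module.Flat P (LocalizedModule q.primeCompl (KaehlerDifferential A P)) := by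
    intro q _ hq
    obtain ⟨-, w, hw⟩ := isAssociatedPrime_iff.1 hq
    obtain ⟨p, rfl⟩ := Ideal.Quotient.mk_surjective w
    obtain ⟨z, rfl⟩ := hf p
    have hca : 𝔞.comap f.toRingHom = I ⊔ J.map (algebraMap A (MvPolynomial (Fin n) A)) := by
      rw [h𝔞, ← f.comp_algebraMap, ← Ideal.map_map]
      exact (Ideal.comap_map_of_surjective' _ hsurj _).trans (sup_comm _ _)
    have hq' : q.comap f.toRingHom ∈ associatedPrimes (MvPolynomial (Fin n) A)
        (MvPolynomial (Fin n) A ⧸ (I ⊔ J.map (algebraMap A (MvPolynomial (Fin n) A)))) := by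
      refine isAssociatedPrime_iff.2 ⟨inferInstance, Ideal.Quotient.mk _ z, ?_⟩
      ext r
      rw [Ideal.mem_comap, hw, Submodule.mem_colon_singleton, Submodule.mem_colon_singleton, Submodule.mem_bot,
        Submodule.mem_bot]
      show Ideal.Quotient.mk 𝔞 (f r * f z) = 0 ↔ Ideal.Quotient.mk _ (r * z) = 0
      rw [Ideal.Quotient.eq_zero_iff_mem, Ideal.Quotient.eq_zero_iff_mem, ← hca, Ideal.mem_comap]
      show f r * f z ∈ 𝔞 ↔ f (r * z) ∈ 𝔞
      rw [map_mul]
    haveI : Algebra.FormallySmooth A (Localization.AtPrime q) := by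
      refine hgs ⟨q, inferInstance⟩ fun 𝔔 hle' hp => PrimeSpectrum.ext ?_
      have h1 := GrothLib.LciH1.eq_of_le_of_associated_sup (A := A) hI J hq' (q' := 𝔔.asIdeal.comap f.toRingHom)
        (fun a ha => by rw [Ideal.mem_comap, RingHom.mem_ker.1 ha]; exact zero_mem _)
        (Ideal.comap_mono hle') (by rw [hcomp, hp, ← hcomp])
      exact Ideal.comap_injective_of_surjective _ hsurj h1
    haveI : Module.Flat P (KaehlerDifferential A (Localization.AtPrime q)) :=
      Module.Flat.trans P (Localization.AtPrime q) _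
    exact Module.Flat.of_linearEquiv
      (IsLocalizedModule.iso q.primeCompl (KaehlerDifferential.map A A P (Localization.AtPrime q)))
  have hex : Function.Exact G.toExtension.cotangentComplex G.toExtension.toKaehler :=
    G.toExtension.exact_cotangentComplex_toKaehler
  let e := LinearEquiv.ofBijective _ (bijective_mapBaseChange_quotient (A := A) (P := P) J)
  let π' := e.toLinearMap ∘ₗ G.toExtension.toKaehler.baseChange (P ⧸ 𝔞)
  refine nonempty_ext_baseChange (P ⧸ 𝔞) G.toExtension.cotangentComplex G.toExtension.toKaehler hd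
    G.toExtension.toKaehler_surjective hex π'
    (injective_lTensor hd G.toExtension.toKaehler_surjective hex 𝔞 hsm)
    (e.surjective.comp (LinearMap.lTensor_surjective _ G.toExtension.toKaehler_surjective)) ?_
  intro x
  rw [LinearMap.comp_apply, LinearEquiv.coe_coe, e.map_eq_zero_iff]
  exact lTensor_exact (P ⧸ 𝔞) hex G.toExtension.toKaehler_surjective x

end GrothLib.T1Base26
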